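import Mathlib.AlgebraicGeometry.AffineScheme
import Mathlib.AlgebraicGeometry.Morphisms.QuasiCompact
import Mathlib.RingTheory.DiscreteValuationRing.TFAE
import Mathlib.RingTheory.Localization.Integral
import Mathlib.RingTheory.Ideal.MinimalPrime.Noetherian
import Mathlib.RingTheory.Spectrum.Prime.Topology
import Mathlib.RingTheory.LocalProperties.Reduced
import Mathlib.RingTheory.KrullDimension.Field

/-!
# A one-dimensional local ring of a relative normalization over which the fibre is empty is a DVR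
-/

set_option autoImplicit false
set_option linter.style.haveILetI false
set_option backward.isDefEq.respectTransparency false
set_option backward.isDefEq.respectTransparency.types false

universe u

open CategoryTheory AlgebraicGeometry

namespace Groth.Agent.NormDVR

/-- An integrally closed subring gives integrally closed localizations. -/
theorem mem_range_of_isIntegral {A B L BP : Type u} [CommRing A] [CommRing B] [Algebra A B] [CommRing L] [Algebra A L]
    (M : Submonoid A) [IsLocalization M L] [CommRing BP] [Algebra B BP] [Algebra A BP] [IsScalarTower A B BP]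
    [IsLocalization (Algebra.algebraMapSubmonoid B M) BP] [Algebra L BP] [IsScalarTower A L BP]
    (hcl : ∀ z : B, IsIntegral A z → z ∈ Set.range (algebraMap A B)) {z : BP} (hz : IsIntegral L z) :
    z ∈ Set.range (algebraMap L BP) := by
  obtain ⟨⟨b, _, m₁, hm₁, rfl⟩, e⟩ := IsLocalization.surj (Algebra.algebraMapSubmonoid B M) z
  simp only [← IsScalarTower.algebraMap_apply] at e
  obtain ⟨⟨m₂, hm₂⟩, hm₂z⟩ := IsIntegral.exists_multiple_integral_of_isLocalization M z hz
  simp only [Submonoid.smul_def, Algebra.smul_def] at hm₂z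
  obtain ⟨m₃, hm₃, hm₃b⟩ := IsLocalization.exists_isIntegral_smul_of_isIntegral_map (Sₘ := BP) M (x := m₂ • b) (by
    simp only [Algebra.smul_def, map_mul, ← IsScalarTower.algebraMap_apply, ← e, ← mul_assoc]
    exact hm₂z.mul isIntegral_algebraMap)
  obtain ⟨a, ha⟩ := hcl _ hm₃b
  let s : M := ⟨m₁ * (m₂ * m₃), mul_mem hm₁ (mul_mem hm₂ hm₃)⟩
  refine ⟨IsLocalization.mk' L a s, ?_⟩
  have hu : IsUnit (algebraMap A BP s) := by
    rw [IsScalarTower.algebraMap_apply A L BP]
    exact (IsLocalization.map_units L s).map _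
  refine hu.mul_left_injective ?_
  show algebraMap L BP (IsLocalization.mk' L a s) * algebraMap A BP s = z * algebraMap A BP s
  rw [IsScalarTower.algebraMap_apply A L BP, ← map_mul, IsLocalization.mk'_spec, ← IsScalarTower.algebraMap_apply,
    IsScalarTower.algebraMap_apply A B BP, ha]
  simp only [Algebra.smul_def, map_mul, ← IsScalarTower.algebraMap_apply, s, ← e]
  ring

/-- The algebra behind the theorem. -/
theorem isDVR {A B L : Type u} [CommRing A] [CommRing B] [Algebra A B] [IsNoetherianRing A] [IsReduced A]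
    (hinj : Function.Injective (algebraMap A B))
    (hcl : ∀ z : B, IsIntegral A z → z ∈ Set.range (algebraMap A B))
    (P : Ideal A) [P.IsPrime] [CommRing L] [Algebra A L] [IsLocalization.AtPrime L P]
    (hdim : ringKrullDim L = 1)
    (hunit : ∀ t : A, (∀ q : Ideal A, q.IsPrime → q ≤ P → t ∈ q → q = P) →
      ∃ (s : A) (b : B), s ∉ P ∧ algebraMap A B t * b = algebraMap A B s) :
    ∃ _ : IsDomain L, IsDiscreteValuationRing L := by
  classical
  haveI : IsLocalRing L := IsLocalization.AtPrime.isLocalRing L P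
  haveI : IsNoetherianRing L := IsLocalization.isNoetherianRing P.primeCompl L inferInstance
  haveI : IsReduced L := isReduced_localizationPreserves P.primeCompl L inferInstance
  let M' := Algebra.algebraMapSubmonoid B P.primeCompl
  let BP := Localization M'
  let φ : L →+* BP := IsLocalization.map BP (algebraMap A B) (M := P.primeCompl) (T := M')
    (fun x hx => ⟨x, hx, rfl⟩)
  letI : Algebra L BP := φ.toAlgebra
  haveI : IsScalarTower A L BP := IsScalarTower.of_algebraMap_eq fun a => by
    rw [IsScalarTower.algebraMap_apply A B BP]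
    exact (IsLocalization.map_eq _ _).symm
  haveI : IsLocalization (P.primeCompl.map (algebraMap A B)) BP := inferInstanceAs (IsLocalization M' BP)
  have hφ : Function.Injective (algebraMap L BP) :=
    IsLocalization.map_injective_of_injective P.primeCompl (S := L) BP (g := algebraMap A B) hinj
  have hint : ∀ z : BP, IsIntegral L z → z ∈ Set.range (algebraMap L BP) := fun z hz =>
    mem_range_of_isIntegral P.primeCompl hcl hz
  have hmin : ∀ t : L, (∀ q ∈ minimalPrimes L, t ∉ q) → IsUnit (algebraMap L BP t) := by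
    intro t ht
    obtain ⟨⟨a, s⟩, e⟩ := IsLocalization.surj P.primeCompl t
    have ha : ∀ q : Ideal A, q.IsPrime → q ≤ P → a ∈ q → q = P := by
      intro q hq hqP haq
      by_contra hne
      let Q := q.map (algebraMap A L)
      have hd : Disjoint (P.primeCompl : Set A) q := Set.disjoint_left.2 fun x hx hxq => hx (hqP hxq)
      haveI hQp : Q.IsPrime := IsLocalization.isPrime_of_isPrime_disjoint P.primeCompl L q hq hd
      have hQne : Q ≠ IsLocalRing.maximalIdeal L := by
        intro h
        apply hne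
        have h1 : Q.comap (algebraMap A L) = q := IsLocalization.under_map_of_isPrime_disjoint P.primeCompl L hq hd
        rw [← h1, h]
        exact IsLocalization.AtPrime.comap_maximalIdeal L P
      have hQlt : Q < IsLocalRing.maximalIdeal L := lt_of_le_of_ne (IsLocalRing.le_maximalIdeal hQp.ne_top) hQne
      obtain ⟨q₀, hq₀, hq₀Q⟩ := Ideal.exists_minimalPrimes_le (I := ⊥) (J := Q) bot_le
      have hQ0 : q₀ = Q := by
        by_contra h
        have hlt : q₀ < Q := lt_of_le_of_ne hq₀Q h
        let c : LTSeries (PrimeSpectrum L) :=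
          ⟨2, ![⟨q₀, hq₀.1.1⟩, ⟨Q, hQp⟩, IsLocalRing.closedPoint L], fun i => by fin_cases i <;> assumption⟩
        have h2 : (2 : WithBot ℕ∞) ≤ ringKrullDim L := Order.LTSeries.length_le_krullDim c
        rw [hdim] at h2
        exact absurd h2 (by decide)
      refine ht q₀ hq₀ (hQ0 ▸ ?_)
      have : t * algebraMap A L s ∈ Q := e ▸ Ideal.mem_map_of_mem _ haq
      exact (hQp.mem_or_mem this).resolve_right fun h => hQp.ne_top
        (Ideal.eq_top_of_isUnit_mem _ h (IsLocalization.map_units L s))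
    obtain ⟨s', b, hs', hb⟩ := hunit a ha
    have h1 : IsUnit (algebraMap L BP (t * algebraMap A L s)) := by
      rw [e, ← IsScalarTower.algebraMap_apply, IsScalarTower.algebraMap_apply A B BP]
      have h2 : IsUnit (algebraMap B BP (algebraMap A B a * b)) := by
        rw [hb]
        exact IsLocalization.map_units BP (⟨_, s', hs', rfl⟩ : M')
      rw [map_mul] at h2
      exact isUnit_of_mul_isUnit_left h2
    rw [map_mul] at h1
    exact isUnit_of_mul_isUnit_left h1
  have hfin : (minimalPrimes L).Finite := minimalPrimes.finite_of_isNoetherianRing L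
  haveI hdom : IsDomain L := by
    obtain ⟨q₁, hq₁⟩ : (minimalPrimes L).Nonempty := by
      obtain ⟨q, hq, -⟩ := Ideal.exists_minimalPrimes_le (I := ⊥) (J := IsLocalRing.maximalIdeal L) bot_le
      exact ⟨q, hq⟩
    have hone : ∀ q ∈ minimalPrimes L, q = q₁ := by
      intro q hq
      by_contra hne
      -- `a` in `q₁` and outside the other minimal primes, `b` in the other ones and outside `q₁`
      have ha' : ¬ ((q₁ : Set L) ⊆ ⋃ p ∈ ((hfin.toFinset.erase q₁ : Finset (Ideal L)) : Set (Ideal L)), p) := by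
        intro h
        obtain ⟨p, hp, hle⟩ := (Ideal.subset_union_prime (f := id) ⊥ ⊥ fun p hp _ _ =>
          (hfin.mem_toFinset.1 (Finset.mem_erase.1 hp).2).1.1).1 h
        obtain ⟨hpne, hp⟩ := Finset.mem_erase.1 hp
        exact hpne (le_antisymm ((hfin.mem_toFinset.1 hp).2 ⟨hq₁.1.1, bot_le⟩ hle) hle)
      obtain ⟨a, haq, ha⟩ := Set.not_subset.1 ha'
      have hb' : ¬ (hfin.toFinset.erase q₁).inf id ≤ q₁ := fun h => by
        obtain ⟨p, hp, hle⟩ := (Ideal.IsPrime.inf_le' hq₁.1.1).1 h
        obtain ⟨hpne, hp⟩ := Finset.mem_erase.1 hp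
        exact hpne (le_antisymm hle (hq₁.2 ⟨(hfin.mem_toFinset.1 hp).1.1, bot_le⟩ hle))
      obtain ⟨b, hbI, hbq⟩ := SetLike.not_le_iff_exists.1 hb'
      have hmem : ∀ p ∈ minimalPrimes L, p ≠ q₁ → a ∉ p ∧ b ∈ p := fun p hp hpne =>
        ⟨fun h => ha (Set.mem_biUnion (Finset.mem_coe.2 (Finset.mem_erase.2 ⟨hpne, hfin.mem_toFinset.2 hp⟩)) h),
          (Submodule.mem_finsetInf.1 hbI) p (Finset.mem_erase.2 ⟨hpne, hfin.mem_toFinset.2 hp⟩)⟩
      have hab : a * b = 0 := by
        have : a * b ∈ sInf (minimalPrimes L) := by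
          rw [Submodule.mem_sInf]
          intro p hp
          by_cases h : p = q₁
          · exact h ▸ Ideal.mul_mem_right b q₁ haq
          · exact Ideal.mul_mem_left p a (hmem p hp h).2
        rw [show minimalPrimes L = (⊥ : Ideal L).minimalPrimes from rfl, Ideal.sInf_minimalPrimes] at this
        rw [show (⊥ : Ideal L).radical = ⊥ from nilradical_eq_zero L] at this
        exact this
      have ht : IsUnit (algebraMap L BP (a + b)) := hmin _ fun p hp h => by
        by_cases hpq : p = q₁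
        · subst hpq
          exact hbq ((Ideal.add_mem_iff_right _ haq).1 h)
        · exact (hmem p hp hpq).1 ((Ideal.add_mem_iff_left _ (hmem p hp hpq).2).1 h)
      obtain ⟨v, hv⟩ := ht
      let z : BP := algebraMap L BP a * ↑v⁻¹
      have hzv : z * algebraMap L BP (a + b) = algebraMap L BP a := by
        rw [← hv, mul_assoc, Units.inv_mul, mul_one]
      have hsq : algebraMap L BP a * algebraMap L BP a = algebraMap L BP a * algebraMap L BP (a + b) := by
        rw [← map_mul, ← map_mul, mul_add, hab, add_zero]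
      have hz2 : z * z = z := by
        have : z * z = algebraMap L BP a * algebraMap L BP a * (↑v⁻¹ * ↑v⁻¹) := by simp only [z]; ring
        rw [this, hsq, ← hv, mul_assoc, ← mul_assoc (↑v : BP), Units.mul_inv, one_mul]
      obtain ⟨e, he⟩ := hint z ⟨Polynomial.X ^ 2 - Polynomial.X,
        Polynomial.monic_X_pow_sub (by simp), by simp [pow_two, hz2]⟩
      have he2 : e * e = e := hφ (by rw [map_mul, he, hz2])
      have hz : a = e * (a + b) := hφ (by rw [map_mul, he, hzv])
      rcases IsLocalRing.isUnit_or_isUnit_one_sub_self e with hu | hu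
      · have : e = 1 := hu.mul_left_cancel (by rw [he2, mul_one])
        rw [this, one_mul] at hz
        exact hbq (by rw [show b = 0 from (add_eq_left (a := a)).1 hz.symm]; exact q₁.zero_mem)
      · have : e = 0 := hu.mul_left_cancel (by rw [sub_mul, one_mul, he2, sub_self, mul_zero])
        rw [this, zero_mul] at hz
        exact (hmem q hq hne).1 (hz ▸ q.zero_mem)
    have : q₁ = ⊥ := by
      have h1 : sInf (minimalPrimes L) = (⊥ : Ideal L).radical := Ideal.sInf_minimalPrimes
      rw [show minimalPrimes L = {q₁} from Set.eq_singleton_iff_unique_mem.2 ⟨hq₁, hone⟩, sInf_singleton] at h1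
      rw [h1]
      exact nilradical_eq_zero L
    haveI : (⊥ : Ideal L).IsPrime := this ▸ hq₁.1.1
    exact IsDomain.of_bot_isPrime L
  refine ⟨hdom, ?_⟩
  have hbot : ∀ q ∈ minimalPrimes L, q = ⊥ := fun q hq =>
    le_antisymm (hq.2 ⟨Ideal.isPrime_bot, le_rfl⟩ bot_le) bot_le
  let K := FractionRing L
  let ι : K →+* BP := IsLocalization.lift (M := nonZeroDivisors L) (g := algebraMap L BP) fun t =>
    hmin t.1 fun q hq h => nonZeroDivisors.ne_zero t.2 ((hbot q hq ▸ h : t.1 ∈ (⊥ : Ideal L)))
  haveI : Nontrivial BP := hφ.nontrivial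
  haveI hIC : IsIntegrallyClosed L := (isIntegrallyClosed_iff K).2 fun {x} hx => by
    let ιA : K →ₐ[L] BP := { ι with commutes' := fun r => IsLocalization.lift_eq _ r }
    obtain ⟨y, hy⟩ := hint _ (hx.map ιA)
    exact ⟨y, ι.injective ((IsLocalization.lift_eq _ y).trans hy)⟩
  have hnf : ¬ IsField L := fun h => by
    rw [ringKrullDim_eq_zero_of_isField h] at hdim
    exact zero_ne_one hdim
  have hmax : ∀ q : Ideal L, q ≠ ⊥ → q.IsPrime → q = IsLocalRing.maximalIdeal L := by
    intro q hne hq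
    by_contra h
    let c : LTSeries (PrimeSpectrum L) :=
      ⟨2, ![⟨⊥, Ideal.isPrime_bot⟩, ⟨q, hq⟩, IsLocalRing.closedPoint L], fun i => by
        fin_cases i
        · exact (bot_lt_iff_ne_bot.2 hne : (⊥ : Ideal L) < q)
        · exact (lt_of_le_of_ne (IsLocalRing.le_maximalIdeal hq.ne_top) h : q < IsLocalRing.maximalIdeal L)⟩
    have h2 : (2 : WithBot ℕ∞) ≤ ringKrullDim L := Order.LTSeries.length_le_krullDim c
    rw [hdim] at h2
    exact absurd h2 (by decide)
  have hT := (IsDiscreteValuationRing.TFAE L hnf).out 0 3 (a := IsDiscreteValuationRing L)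
    (b := IsIntegrallyClosed L ∧ ∃! P : Ideal L, P ≠ ⊥ ∧ P.IsPrime) rfl rfl
  exact hT.2 ⟨hIC, IsLocalRing.maximalIdeal L,
    ⟨fun h => hnf (IsLocalRing.isField_iff_maximalIdeal_eq.2 h), inferInstance⟩, fun q hq => hmax q hq.1 hq.2⟩

/-- A section invertible near the points lying over a prime, globally up to a multiple. -/
theorem exists_inverse_multiple {X Y : Scheme.{u}} (f : Y ⟶ X) [QuasiCompact f] {W : X.Opens} (hW : IsAffineOpen W)
    (P : Ideal Γ(X, W)) [P.IsPrime] (hP : hW.fromSpec (⟨P, inferInstance⟩ : PrimeSpectrum Γ(X, W)) ∉ Set.range f.base)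
    (t : Γ(X, W)) (ht : ∀ q : Ideal Γ(X, W), q.IsPrime → q ≤ P → t ∈ q → q = P) :
    ∃ (s : Γ(X, W)) (b : Γ(Y, f ⁻¹ᵁ W)), s ∉ P ∧ f.app W t * b = f.app W s := by
  classical
  obtain ⟨S, hS, e⟩ := isCompact_iff_finite_and_eq_biUnion_affineOpens.mp (f.isCompact_preimage hW.isCompact)
  haveI := hS.fintype
  have hle : ∀ i : S, (i.1.1 : Y.Opens) ≤ f ⁻¹ᵁ W := fun i => by
    rw [e]
    exact le_iSup₂_of_le i.1 i.2 le_rfl
  have key : ∀ i : S, ∃ (s : Γ(X, W)) (b : Γ(Y, i.1.1)), s ∉ P ∧
      f.appLE W i.1.1 (hle i) t * b = f.appLE W i.1.1 (hle i) s := by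
    intro i
    let ψ := (f.appLE W i.1.1 (hle i)).hom
    by_contra hcon
    push_neg at hcon
    have hd : Disjoint ((Ideal.span {ψ t} : Ideal Γ(Y, i.1.1)) : Set Γ(Y, i.1.1))
        ((P.primeCompl.map ψ : Submonoid Γ(Y, i.1.1)) : Set Γ(Y, i.1.1)) := by
      refine Set.disjoint_left.2 ?_
      rintro x hx ⟨s, hs, rfl⟩
      obtain ⟨b, hb⟩ := Ideal.mem_span_singleton'.1 hx
      exact hcon s b hs (by rw [mul_comm]; exact hb)
    obtain ⟨Q, hQ, htQ, hQd⟩ := Ideal.exists_le_prime_disjoint _ _ hd
    have hqP : Q.comap ψ ≤ P := fun x hx => by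
      by_contra hxP
      exact Set.disjoint_left.1 hQd hx ⟨x, hxP, rfl⟩
    have hq := ht (Q.comap ψ) inferInstance hqP (htQ (Ideal.mem_span_singleton_self _))
    refine hP ⟨i.1.2.fromSpec (⟨Q, hQ⟩ : PrimeSpectrum Γ(Y, i.1.1)), ?_⟩
    have hsq := IsAffineOpen.SpecMap_appLE_fromSpec f hW i.1.2 (hle i)
    refine (congrArg (fun m : Spec Γ(Y, i.1.1) ⟶ X => m (⟨Q, hQ⟩ : PrimeSpectrum Γ(Y, i.1.1))) hsq).symm.trans ?_
    exact congrArg hW.fromSpec.base (PrimeSpectrum.ext hq)
  choose s b hs hb using key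
  let σ := ∏ i, s i
  have hσ : σ ∉ P := fun h => by
    obtain ⟨i, -, hi⟩ := Ideal.IsPrime.prod_mem_iff.1 h
    exact hs i hi
  let c : ∀ i : S, Γ(Y, i.1.1) := fun i => b i * f.appLE W i.1.1 (hle i) (∏ j ∈ Finset.univ.erase i, s j)
  have hc : ∀ i, f.appLE W i.1.1 (hle i) t * c i = f.appLE W i.1.1 (hle i) σ := fun i => by
    simp only [c, ← mul_assoc, hb, ← map_mul, Finset.mul_prod_erase _ _ (Finset.mem_univ i)]
    rfl
  let d : ∀ i : S, Γ(Y, i.1.1) := fun i => f.appLE W i.1.1 (hle i) σ * c i
  have hd : ∀ i j : S, Y.presheaf.map (TopologicalSpace.Opens.infLELeft i.1.1 j.1.1).op (d i) =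
      Y.presheaf.map (TopologicalSpace.Opens.infLERight i.1.1 j.1.1).op (d j) := by
    intro i j
    let ρ := (f.appLE W (i.1.1 ⊓ j.1.1) (inf_le_left.trans (hle i))).hom
    have h1 : ∀ x, Y.presheaf.map (TopologicalSpace.Opens.infLELeft i.1.1 j.1.1).op (f.appLE W i.1.1 (hle i) x) = ρ x :=
      fun x => by
        rw [← CategoryTheory.comp_apply, Scheme.Hom.appLE_map]
    have h2 : ∀ x, Y.presheaf.map (TopologicalSpace.Opens.infLERight i.1.1 j.1.1).op (f.appLE W j.1.1 (hle j) x) = ρ x :=
      fun x => by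
        rw [← CategoryTheory.comp_apply, Scheme.Hom.appLE_map]
    have ci := congrArg (Y.presheaf.map (TopologicalSpace.Opens.infLELeft i.1.1 j.1.1).op) (hc i)
    have cj := congrArg (Y.presheaf.map (TopologicalSpace.Opens.infLERight i.1.1 j.1.1).op) (hc j)
    rw [map_mul, h1, h1] at ci
    rw [map_mul, h2, h2] at cj
    simp only [d, map_mul, h1, h2]
    conv_lhs => rw [← cj]
    conv_rhs => rw [← ci]
    ring
  obtain ⟨g, hg, -⟩ := TopCat.Sheaf.existsUnique_gluing' Y.sheaf (fun i : S => (i.1.1 : Y.Opens)) (f ⁻¹ᵁ W)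
    (fun i => homOfLE (hle i)) (by
      intro y hy
      rw [e] at hy
      simp only [TopologicalSpace.Opens.mem_iSup] at hy ⊢
      obtain ⟨v, hv, hyv⟩ := hy
      exact ⟨⟨v, hv⟩, hyv⟩) d hd
  refine ⟨σ * σ, g, fun h => hσ ((‹P.IsPrime›.mem_or_mem h).elim id id), ?_⟩
  refine Y.IsSheaf.section_ext fun y hy => ?_
  rw [e] at hy
  simp only [TopologicalSpace.Opens.mem_iSup] at hy
  obtain ⟨v, hv, hyv⟩ := hy
  refine ⟨v.1, hle ⟨v, hv⟩, hyv, ?_⟩
  have hres : ∀ x, Y.presheaf.map (homOfLE (hle ⟨v, hv⟩)).op (f.app W x) = f.appLE W v.1 (hle ⟨v, hv⟩) x :=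
    fun x => (CategoryTheory.comp_apply _ _ x).symm
  have hg' : Y.presheaf.map (homOfLE (hle ⟨v, hv⟩)).op g = d ⟨v, hv⟩ := hg ⟨v, hv⟩
  rw [map_mul, hres, hg', hres, map_mul]
  simp only [d]
  refine (mul_left_comm _ _ _).trans ?_
  exact congrArg _ (hc ⟨v, hv⟩)

end Groth.Agent.NormDVR
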